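import Groth.Agent.Lib.Kaehler.Basic
import Groth.Agent.Lib.JacCrit.Minimal
import Mathlib.RingTheory.PowerBasis
import Mathlib.RingTheory.Smooth.Basic
import Mathlib.FieldTheory.Separable
import Mathlib.AlgebraicGeometry.Morphisms.Proper
import Mathlib.AlgebraicGeometry.Morphisms.Smooth

/-!
Global functions on proper smooth schemes over a field are killed by the differential.
-/

set_option autoImplicit false
set_option linter.style.haveILetI false

noncomputable section

universe u

open CategoryTheory AlgebraicGeometry Opposite TopologicalSpace TensorProduct Polynomial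

namespace Groth.Agent.Lib.DClosed.Basic

open Groth.Agent.Lib.Kaehler.Basic

section Algebra

variable {k B M : Type u} [Field k] [CommRing B] [Algebra k B] [AddCommGroup M] [Module B M]

/-- Integral elements of geometrically reduced algebras are separable. -/
theorem separable_minpoly [Algebra.IsGeometricallyReduced k B] (b : B) (hb : IsIntegral k b) :
    (minpoly k b).Separable := by
  classical
  let L := AlgebraicClosure k
  haveI : IsReduced (L ⊗[k] B) := inferInstance
  set P := minpoly k b with hP
  have hP0 : P ≠ 0 := minpoly.ne_zero hb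
  let Q := P.map (algebraMap k L)
  have hQ0 : Q ≠ 0 := Polynomial.map_ne_zero hP0
  have hQx : Polynomial.aeval ((1 : L) ⊗ₜ[k] b) Q = 0 := by
    rw [Polynomial.aeval_map_algebraMap,
      show (1 : L) ⊗ₜ[k] b = (Algebra.TensorProduct.includeRight : B →ₐ[k] L ⊗[k] B) b from rfl,
      Polynomial.aeval_algHom_apply, hP, minpoly.aeval, map_zero]
  have hind : LinearIndependent L fun i : Fin P.natDegree => ((1 : L) ⊗ₜ[k] b) ^ (i : ℕ) := by
    have h := Module.Flat.linearIndependent_one_tmul (S := L) (linearIndependent_pow (K := k) b)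
    simpa [Algebra.TensorProduct.tmul_pow] using h
  have hnd : ∀ r : L, Q.rootMultiplicity r ≤ 1 := fun r => by
    by_contra hr
    obtain ⟨R, hR⟩ := (le_rootMultiplicity_iff hQ0).1 (show 2 ≤ Q.rootMultiplicity r by omega)
    have hy : IsNilpotent (Polynomial.aeval ((1 : L) ⊗ₜ[k] b) ((X - C r) * R)) := by
      refine ⟨2, ?_⟩
      rw [← map_pow, show ((X - C r) * R) ^ 2 = Q * R by rw [hR]; ring, map_mul, hQx, zero_mul]
    have hy0 := hy.eq_zero
    have hR0 : R ≠ 0 := by rintro rfl; exact hQ0 (by rw [hR, mul_zero])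
    have hS0 : (X - C r) * R ≠ 0 := mul_ne_zero (X_sub_C_ne_zero r) hR0
    have hdeg : ((X - C r) * R).natDegree < P.natDegree := by
      have h1 : Q.natDegree = 2 + R.natDegree := by
        rw [hR, natDegree_mul (pow_ne_zero _ (X_sub_C_ne_zero r)) hR0, natDegree_pow, natDegree_X_sub_C]
      rw [show P.natDegree = Q.natDegree from (natDegree_map _).symm, h1,
        natDegree_mul (X_sub_C_ne_zero r) hR0, natDegree_X_sub_C]
      omega
    rw [Polynomial.aeval_eq_sum_range' hdeg] at hy0
    simp only [Finset.sum_range] at hy0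
    refine hS0 (Polynomial.ext fun i => ?_)
    rcases lt_or_ge i P.natDegree with hi | hi
    · exact (Fintype.linearIndependent_iff.1 hind _ hy0) ⟨i, hi⟩
    · exact coeff_eq_zero_of_natDegree_lt (lt_of_lt_of_le hdeg hi)
  have hnodup : Q.roots.Nodup := Multiset.nodup_iff_count_le_one.2 fun r => by
    rw [Polynomial.count_roots]; exact hnd r
  have hsep : Q.Separable :=
    (nodup_roots_iff_of_splits hQ0 (IsAlgClosed.splits Q)).1 hnodup
  exact (Polynomial.separable_map (algebraMap k L)).1 hsep

/-- Derivations killing the constants kill separable integral elements. -/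
theorem eq_zero_of_separable (D : B →+ M) (hmul : ∀ a b, D (a * b) = a • D b + b • D a)
    (hc : ∀ c : k, D (algebraMap k B c) = 0) (b : B) (P : k[X]) (hP : P.Separable)
    (hb : aeval b P = 0) : D b = 0 := by
  have key : ∀ R : k[X], D (aeval b R) = aeval b (derivative R) • D b := fun R => by
    induction R using Polynomial.induction_on with
    | C c => simp [hc]
    | add R S hR hS => rw [map_add, map_add, hR, hS, map_add, map_add, add_smul]
    | monomial n c ih =>
      have e : (C c * X ^ (n + 1) : k[X]) = (C c * X ^ n) * X := by ring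
      rw [e, map_mul (aeval b) (C c * X ^ n) X, aeval_X, hmul, ih, derivative_mul (f := C c * X ^ n), derivative_X,
        mul_one, map_add, map_mul (aeval b) (derivative (C c * X ^ n)) X, aeval_X,
        add_smul, smul_smul, mul_comm b]
      abel
  obtain ⟨u, v, huv⟩ := hP
  have h := congrArg (aeval b) huv
  rw [map_add, map_mul, hb, mul_zero, zero_add, map_mul, map_one] at h
  have h2 := key P
  rw [hb, map_zero] at h2
  calc D b = (aeval b v * aeval b (derivative P)) • D b := by rw [h, one_smul]
    _ = 0 := by rw [mul_smul, ← h2, smul_zero]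

theorem isGeometricallyReduced_of_smooth [Algebra.Smooth k B] : Algebra.IsGeometricallyReduced k B := by
  rw [Algebra.isGeometricallyReduced_field_iff]
  exact JacCrit.Minimal.isReduced_of_smooth (AlgebraicClosure k)

end Algebra

theorem der_app_res_eq_zero {k : Type u} [Field k] {X : Scheme.{u}} (f : X ⟶ Spec (CommRingCat.of k))
    [IsProper f] [Smooth f] {F : X.Modules} (D : OmegaSh.Der f F) (U : X.affineOpens) (s : Γ(X, ⊤)) :
    D.app U.1 (X.presheaf.map (homOfLE (le_top : U.1 ≤ ⊤)).op s) = 0 := by
  let φ : k →+* Γ(X, U.1) :=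
    ((Scheme.ΓSpecIso (CommRingCat.of k)).inv ≫ f.appLE ⊤ U.1 le_top).hom
  algebraize [φ]
  have hsm : φ.Smooth := by
    refine RingHom.Smooth.respectsIso.2 _ (Scheme.ΓSpecIso (CommRingCat.of k)).symm.commRingCatIsoToRingEquiv ?_
    exact f.smooth_appLE (isAffineOpen_top _) U.2 le_top
  haveI : Algebra.Smooth k Γ(X, U.1) := hsm
  haveI := isGeometricallyReduced_of_smooth (k := k) (B := Γ(X, U.1))
  have hint : IsIntegral k (X.presheaf.map (homOfLE (le_top : U.1 ≤ ⊤)).op s) := by
    obtain ⟨P, hPm, hP⟩ := isIntegral_appTop_of_universallyClosed f s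
    refine ⟨P.map (Scheme.ΓSpecIso (CommRingCat.of k)).hom.hom, hPm.map _, ?_⟩
    rw [Polynomial.eval₂_map]
    have h := congrArg (X.presheaf.map (homOfLE (le_top : U.1 ≤ ⊤)).op).hom hP
    rw [Polynomial.hom_eval₂, map_zero] at h
    refine Eq.trans ?_ h
    congr 1
    ext c
    change f.appLE ⊤ U.1 le_top ((Scheme.ΓSpecIso (CommRingCat.of k)).inv ((Scheme.ΓSpecIso (CommRingCat.of k)).hom c)) = _
    rw [Iso.hom_inv_id_apply]
    rfl
  refine eq_zero_of_separable (k := k) (B := Γ(X, U.1)) (M := Γ(F, U.1)) (D.app U.1) (der_app_mul D U.1)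
    (fun c => ?_) _ (minpoly k _) (separable_minpoly _ hint) (minpoly.aeval k _)
  exact der_app_appLE D ⊤ U.1 le_top ((Scheme.ΓSpecIso (CommRingCat.of k)).inv c)


theorem der_app_eq_zero {k : Type u} [Field k] {X : Scheme.{u}} (f : X ⟶ Spec (CommRingCat.of k))
    [IsProper f] [Smooth f] {F : X.Modules} (D : OmegaSh.Der f F) (s : Γ(X, ⊤)) : D.app ⊤ s = 0 := by
  refine TopCat.Sheaf.eq_of_locally_eq' (⟨F.presheaf, F.isSheaf⟩ : TopCat.Sheaf Ab.{u} X)
    (fun U : X.affineOpens => U.1) ⊤ (fun U => homOfLE le_top) (fun x _ => by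
      obtain ⟨V, hV, hx, -⟩ := exists_isAffineOpen_mem_and_subset (X := X) (x := x) (U := ⊤) trivial
      exact Opens.mem_iSup.2 ⟨⟨V, hV⟩, hx⟩) _ _ fun U => ?_
  erw [map_zero]
  change F.presheaf.map (homOfLE le_top).op (D.app ⊤ s) = 0
  rw [← der_app_map D (le_top : U.1 ≤ ⊤) s]
  exact der_app_res_eq_zero f D U s

end Groth.Agent.Lib.DClosed.Basic
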